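import Groth.Prelude.Def_CAlgX
import Mathlib.Algebra.MvPolynomial.Division
import Mathlib.Algebra.MvPolynomial.Variables
import Mathlib.RingTheory.MvPolynomial.Homogeneous
import Mathlib.RingTheory.Regular.RegularSequence
import Mathlib.RingTheory.Filtration

/-!
# Regular sequences are quasi-regular
-/

universe u

open MvPolynomial RingTheory.Sequence CAlgX

namespace Groth.Agent.Lib.Regular45.QuasiReg

variable {A : Type u} [CommRing A]

theorem eval_mem_mul_pow {c n : ℕ} (f : Fin c → A) (I : Ideal A) {P : MvPolynomial (Fin c) A}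
    (hP : P.IsHomogeneous n) (h : ∀ d, P.coeff d ∈ I) :
    eval f P ∈ I * Ideal.span (Set.range f) ^ n := by
  rw [P.as_sum, map_sum]
  refine Ideal.sum_mem _ fun d hd => ?_
  rw [eval_monomial]
  refine Ideal.mul_mem_mul (h d) ((Ideal.mem_span_pow_iff_exists_isHomogeneous f _).mpr
    ⟨monomial d 1, isHomogeneous_monomial _ ?_, by simp [eval_monomial, Finsupp.prod_fintype]⟩)
  rw [Finsupp.degree_eq_weight_one]
  exact hP (mem_support_iff.mp hd)

theorem exists_coeff_mem {c n : ℕ} (f : Fin c → A) (I : Ideal A) {y : A}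
    (hy : y ∈ I * Ideal.span (Set.range f) ^ n) :
    ∃ Q : MvPolynomial (Fin c) A, Q.IsHomogeneous n ∧ eval f Q = y ∧ ∀ d, Q.coeff d ∈ I := by
  refine Submodule.mul_induction_on hy (fun a ha b hb => ?_) fun x y hx hy => ?_
  · obtain ⟨Q, hQ, rfl⟩ := (Ideal.mem_span_pow_iff_exists_isHomogeneous f b).mp hb
    refine ⟨MvPolynomial.C a * Q, hQ.C_mul a, by simp, fun d => ?_⟩
    rw [coeff_C_mul]
    exact Ideal.mul_mem_right _ _ ha
  · obtain ⟨P, hP, rfl, hPc⟩ := hx
    obtain ⟨Q, hQ, rfl, hQc⟩ := hy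
    exact ⟨P + Q, hP.add hQ, map_add _ _ _, fun d => by
      rw [coeff_add]; exact add_mem (hPc d) (hQc d)⟩

theorem of_eval_eq_zero {c : ℕ} (f : Fin c → A) {n : ℕ}
    (h : ∀ P : MvPolynomial (Fin c) A, P.IsHomogeneous n → eval f P = 0 →
      ∀ d, P.coeff d ∈ Ideal.span (Set.range f))
    {P : MvPolynomial (Fin c) A} (hP : P.IsHomogeneous n)
    (he : eval f P ∈ Ideal.span (Set.range f) ^ (n + 1)) (d : Fin c →₀ ℕ) :
    P.coeff d ∈ Ideal.span (Set.range f) := by
  obtain ⟨Q, hQ, hQe, hQc⟩ := exists_coeff_mem f (Ideal.span (Set.range f)) (n := n)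
    (y := eval f P) (by rwa [← pow_succ'])
  have h1 := h (P - Q) (hP.sub hQ) (by rw [map_sub, hQe, sub_self]) d
  rw [coeff_sub] at h1
  simpa using add_mem h1 (hQc d)

theorem mem_pow_of_mul_mem_pow {c : ℕ} (f : Fin c → A) (hf : IsQuasiRegular f) {x : A}
    (hx : ∀ a, x * a ∈ Ideal.span (Set.range f) → a ∈ Ideal.span (Set.range f)) :
    ∀ (n : ℕ) (a : A), x * a ∈ Ideal.span (Set.range f) ^ n → a ∈ Ideal.span (Set.range f) ^ n := by
  intro n
  induction n with
  | zero => simp
  | succ n ih =>
    intro a ha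
    obtain ⟨Q, hQ, rfl⟩ := (Ideal.mem_span_pow_iff_exists_isHomogeneous f a).mp
      (ih a (Ideal.pow_le_pow_right n.le_succ ha))
    rw [pow_succ']
    refine eval_mem_mul_pow f _ hQ fun d => hx _ ?_
    have := hf n (MvPolynomial.C x * Q) (hQ.C_mul x) (by simpa using ha) d
    rwa [coeff_C_mul] at this

theorem coeff_rename_mem {σ τ : Type*} (g : MvPolynomial σ A) {e : σ → τ} (he : e.Injective)
    (I : Ideal A) (h : ∀ d, g.coeff d ∈ I) (d : τ →₀ ℕ) : (rename e g).coeff d ∈ I := by
  by_cases hd : ∃ d', Finsupp.mapDomain e d' = d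
  · obtain ⟨d', rfl⟩ := hd
    rw [coeff_rename_mapDomain e he]
    exact h d'
  · rw [coeff_rename_eq_zero e g d (fun u hu => absurd ⟨u, hu⟩ hd)]
    exact zero_mem _

theorem quasiRegular_succ {c : ℕ} (f : Fin (c + 1) → A) (hf : IsQuasiRegular (f ∘ Fin.castSucc))
    (hx : ∀ a, f (Fin.last c) * a ∈ Ideal.span (Set.range (f ∘ Fin.castSucc)) →
      a ∈ Ideal.span (Set.range (f ∘ Fin.castSucc))) : IsQuasiRegular f := by
  classical
  have hle : Ideal.span (Set.range (f ∘ Fin.castSucc)) ≤ Ideal.span (Set.range f) :=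
    Ideal.span_mono (Set.range_comp_subset_range _ _)
  suffices key : ∀ (n : ℕ) (P : MvPolynomial (Fin (c + 1)) A), P.IsHomogeneous n → eval f P = 0 →
      ∀ d, P.coeff d ∈ Ideal.span (Set.range f) from
    fun n P hP he d => of_eval_eq_zero f (key n) hP he d
  intro n
  induction n with
  | zero =>
    intro P hP he d
    rw [MvPolynomial.totalDegree_eq_zero_iff_eq_C.mp (Nat.le_zero.mp hP.totalDegree_le)] at he ⊢
    rw [eval_C] at he
    rw [he, C_0, coeff_zero]
    exact zero_mem _
  | succ n ih =>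
    intro P hP he d
    let s : Fin (c + 1) →₀ ℕ := Finsupp.single (Fin.last c) 1
    let H := P.divMonomial s
    let G := P.modMonomial s
    have hPHG : MvPolynomial.X (Fin.last c) * H + G = P := divMonomial_add_modMonomial_single P _
    have hH : H.IsHomogeneous n := by
      intro d hd
      rw [coeff_divMonomial] at hd
      have := hP hd
      rw [map_add] at this
      simp [s, Finsupp.weight_apply] at this ⊢
      omega
    have hG : G.IsHomogeneous (n + 1) := by
      intro d hd
      by_cases hle : s ≤ d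
      · rw [coeff_modMonomial_of_le _ hle] at hd; exact absurd rfl hd
      · rw [coeff_modMonomial_of_not_le _ hle] at hd; exact hP hd
    obtain ⟨g, hg⟩ := exists_rename_eq_of_vars_subset_range G Fin.castSucc
      (Fin.castSucc_injective c) (by
        intro i hi
        obtain ⟨d, hd, hid⟩ := (mem_vars i).mp hi
        rw [Fin.range_castSucc]
        show (i : ℕ) < c
        by_contra hic
        obtain rfl : i = Fin.last c := Fin.ext (by simp; omega)
        rw [mem_support_iff] at hd
        refine hd (coeff_modMonomial_of_le _ (Finsupp.single_le_iff.mpr ?_))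
        exact Nat.one_le_iff_ne_zero.mpr (Finsupp.mem_support_iff.mp hid))
    have hg' : g.IsHomogeneous (n + 1) :=
      (IsHomogeneous.rename_isHomogeneous_iff (Fin.castSucc_injective c)).mp (hg ▸ hG)
    have heG : eval f G = eval (f ∘ Fin.castSucc) g := by rw [← hg, eval_rename]
    have hev : f (Fin.last c) * eval f H + eval (f ∘ Fin.castSucc) g = 0 := by
      rw [← heG, ← he, ← hPHG]; simp
    have hHmem : eval f H ∈ Ideal.span (Set.range (f ∘ Fin.castSucc)) ^ (n + 1) := by
      refine mem_pow_of_mul_mem_pow _ hf hx _ _ ?_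
      rw [eq_neg_of_add_eq_zero_left hev]
      exact neg_mem ((Ideal.mem_span_pow_iff_exists_isHomogeneous _ _).mpr ⟨g, hg', rfl⟩)
    have hHc : ∀ d, H.coeff d ∈ Ideal.span (Set.range f) := fun d =>
      of_eval_eq_zero f ih hH (Ideal.pow_right_mono hle _ hHmem) d
    obtain ⟨h, hh, hhe⟩ := (Ideal.mem_span_pow_iff_exists_isHomogeneous _ _).mp hHmem
    have hgc : ∀ d, g.coeff d ∈ Ideal.span (Set.range f) := fun d => by
      have h1 := hle (hf (n + 1) (g + MvPolynomial.C (f (Fin.last c)) * h) (hg'.add (hh.C_mul _))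
        (by
          have h0 : eval (f ∘ Fin.castSucc) (g + MvPolynomial.C (f (Fin.last c)) * h) = 0 := by
            rw [map_add, map_mul, eval_C, hhe]; linear_combination hev
          rw [h0]; exact zero_mem _) d)
      rw [coeff_add, coeff_C_mul] at h1
      exact (Ideal.add_mem_iff_left _ (Ideal.mul_mem_right _ _ (Ideal.subset_span (Set.mem_range_self (Fin.last c))))).mp h1
    rw [← hPHG, coeff_add, coeff_X_mul']
    refine add_mem ?_ (hg ▸ coeff_rename_mem g (Fin.castSucc_injective c) _ hgc d)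
    split
    · exact hHc _
    · exact zero_mem _

theorem quasiRegular_of_isWeaklyRegular : ∀ {c : ℕ} (f : Fin c → A),
    IsWeaklyRegular A (List.ofFn f) → IsQuasiRegular f := by
  intro c
  induction c with
  | zero =>
    intro f _ n P hP he d
    rw [Set.range_eq_empty, Ideal.span_empty] at he ⊢
    rw [Ideal.mem_bot]
    rcases n with _ | n
    · rw [MvPolynomial.totalDegree_eq_zero_iff_eq_C.mp (Nat.le_zero.mp hP.totalDegree_le)] at he ⊢
      simp at he
      rw [he, C_0, coeff_zero]
    · exact hP.coeff_eq_zero (d := d) (by rw [Subsingleton.elim d 0]; simp)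
  | succ c ih =>
    intro f hf
    rw [List.ofFn_succ', List.concat_eq_append, isWeaklyRegular_append_iff, isWeaklyRegular_cons_iff] at hf
    refine quasiRegular_succ f (ih (f ∘ Fin.castSucc) hf.1) fun a ha => ?_
    have h2 : IsSMulRegular (A ⧸ Ideal.ofList (List.ofFn (f ∘ Fin.castSucc)) • (⊤ : Submodule A A))
        (f (Fin.last c)) := hf.2.1
    have hI : (Ideal.ofList (List.ofFn (f ∘ Fin.castSucc)) • (⊤ : Submodule A A)) =
        Ideal.span (Set.range (f ∘ Fin.castSucc)) := by
      rw [smul_eq_mul, Ideal.mul_top, Ideal.ofList]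
      simp [List.mem_ofFn', Set.range]
    rw [← hI] at ha ⊢
    exact mem_of_isSMulRegular_quotient_of_smul_mem h2 (by rwa [smul_eq_mul])

theorem mem_pow_of_X_mul_mem {c : ℕ} (f : Fin c → A) (hf : IsQuasiRegular f) (i : Fin c)
    (n : ℕ) (a : A) (ha : f i * a ∈ Ideal.span (Set.range f) ^ (n + 1)) :
    a ∈ Ideal.span (Set.range f) ^ n := by
  suffices ∀ t ≤ n, a ∈ Ideal.span (Set.range f) ^ t from this n le_rfl
  intro t
  induction t with
  | zero => simp
  | succ t ih =>
    intro ht
    obtain ⟨Q, hQ, rfl⟩ := (Ideal.mem_span_pow_iff_exists_isHomogeneous f a).mp (ih (by omega))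
    rw [pow_succ']
    refine eval_mem_mul_pow f _ hQ fun d => ?_
    have := hf (1 + t) (MvPolynomial.X i * Q) ((isHomogeneous_X A i).mul hQ)
      (by
        rw [map_mul, eval_X]
        exact Ideal.pow_le_pow_right (by omega) ha) (Finsupp.single i 1 + d)
    rwa [coeff_X_mul] at this

end Groth.Agent.Lib.Regular45.QuasiReg
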