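import Groth.Agent.Lib.Regular45.QuasiReg
import Mathlib.RingTheory.Filtration

/-!
# Quasi-regular sequences in the Jacobson radical are regular
-/

universe u

open MvPolynomial RingTheory.Sequence CAlgX

namespace Groth.Agent.Lib.Regular45.QuasiRegConverse

open Groth.Agent.Lib.Regular45.QuasiReg

variable {A : Type u} [CommRing A]

theorem isSMulRegular_zero [IsNoetherianRing A] {c : ℕ} (f : Fin (c + 1) → A)
    (hf : ∀ i, f i ∈ Ring.jacobson A) (hq : IsQuasiRegular f) : IsSMulRegular A (f 0) := by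
  intro a b hab
  rw [← sub_eq_zero]
  have hJ : Ideal.span (Set.range f) ≤ Ideal.jacobson (⊥ : Ideal A) := by
    rw [Ideal.jacobson_bot]
    exact Ideal.span_le.mpr (Set.range_subset_iff.mpr hf)
  have hK := Ideal.iInf_pow_smul_eq_bot_of_le_jacobson (M := A) (Ideal.span (Set.range f)) hJ
  rw [← Submodule.mem_bot A, ← hK, Submodule.mem_iInf]
  intro n
  rw [smul_eq_mul, Ideal.mul_top]
  refine mem_pow_of_X_mul_mem f hq 0 n _ ?_
  have h0 : f 0 * (a - b) = 0 := by
    rw [mul_sub]; exact sub_eq_zero.mpr hab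
  rw [h0]
  exact zero_mem _

theorem map_quasiRegular {c : ℕ} (f : Fin (c + 1) → A) (hq : IsQuasiRegular f) :
    IsQuasiRegular (fun i : Fin c => Ideal.Quotient.mk (Ideal.span {f 0}) (f i.succ)) := by
  classical
  set π := Ideal.Quotient.mk (Ideal.span {f 0}) with hπ
  set J := Ideal.span (Set.range f) with hJ
  have hx : f 0 ∈ J := Ideal.subset_span ⟨0, rfl⟩
  have hmap : Ideal.span (Set.range fun i : Fin c => π (f i.succ)) = J.map π := by
    refine le_antisymm (Ideal.span_le.mpr ?_) (Ideal.map_le_iff_le_comap.mpr (Ideal.span_le.mpr ?_))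
    · rintro _ ⟨i, rfl⟩
      exact Ideal.mem_map_of_mem π (Ideal.subset_span ⟨i.succ, rfl⟩)
    · rintro _ ⟨i, rfl⟩
      refine Fin.cases ?_ (fun j => Ideal.subset_span ⟨j, rfl⟩) i
      rw [SetLike.mem_coe, Ideal.mem_comap, hπ,
        Ideal.Quotient.eq_zero_iff_mem.mpr (Ideal.mem_span_singleton_self _)]
      exact zero_mem _
  intro n P' hP' he d
  rw [hmap] at he ⊢
  obtain ⟨P₀, rfl⟩ := map_surjective π Ideal.Quotient.mk_surjective P'
  let P := homogeneousComponent n P₀
  have hP : P.IsHomogeneous n := homogeneousComponent_isHomogeneous n P₀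
  have hmapP : MvPolynomial.map π P = MvPolynomial.map π P₀ := by
    ext e
    rw [coeff_map, coeff_homogeneousComponent]
    split_ifs with h
    · rw [coeff_map]
    · rw [map_zero, hP'.coeff_eq_zero (d := e) h]
  rw [← hmapP] at he ⊢
  rw [coeff_map]
  refine Ideal.mem_map_of_mem π ?_
  let Q := rename Fin.succ P
  have hQ : Q.IsHomogeneous n := hP.rename_isHomogeneous
  have hcoeff : Q.coeff (Finsupp.mapDomain Fin.succ d) = P.coeff d :=
    coeff_rename_mapDomain _ (Fin.succ_injective c) P d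
  rw [← hcoeff]
  have he2 : eval f Q ∈ J ^ (n + 1) ⊔ Ideal.span {f 0} := by
    rw [← Ideal.mk_ker (I := Ideal.span {f 0}), ← hπ,
      ← Ideal.comap_map_of_surjective' π Ideal.Quotient.mk_surjective, Ideal.mem_comap,
      Ideal.map_pow]
    convert he using 1
    rw [eval_rename, eval_map, eval₂_comp π (f ∘ Fin.succ) P]
    rfl
  obtain ⟨y, hy, z, hz, hyz⟩ := Submodule.mem_sup.mp he2
  obtain ⟨r, rfl⟩ := Ideal.mem_span_singleton'.mp hz
  rcases n with _ | m
  · refine hq 0 Q hQ ?_ _
    rw [← hyz, zero_add, pow_one]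
    rw [zero_add, pow_one] at hy
    exact add_mem hy (Ideal.mul_mem_left _ _ hx)
  · have hr : r ∈ J ^ m := by
      refine mem_pow_of_X_mul_mem f hq 0 m r ?_
      have h1 : eval f Q ∈ J ^ (m + 1) :=
        (Ideal.mem_span_pow_iff_exists_isHomogeneous f _).mpr ⟨Q, hQ, rfl⟩
      rw [show f 0 * r = eval f Q - y by rw [← hyz]; ring]
      exact sub_mem h1 (Ideal.pow_le_pow_right (by omega) hy)
    obtain ⟨R, hR, rfl⟩ := (Ideal.mem_span_pow_iff_exists_isHomogeneous f r).mp hr
    have h2 := hq (m + 1) (Q - MvPolynomial.X 0 * R)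
      (hQ.sub (add_comm 1 m ▸ (isHomogeneous_X A (0 : Fin (c + 1))).mul hR))
      (by rw [map_sub, map_mul, eval_X, ← hyz]; convert hy using 1; ring)
      (Finsupp.mapDomain Fin.succ d)
    have hzero : (Finsupp.mapDomain Fin.succ d : Fin (c + 1) →₀ ℕ) 0 = 0 :=
      Finsupp.mapDomain_notin_range d 0 (by simp)
    rwa [coeff_sub, coeff_X_mul', if_neg (by rwa [Finsupp.notMem_support_iff]), sub_zero] at h2

theorem isWeaklyRegular_of_quasiRegular : ∀ (c : ℕ) (A : Type u) [CommRing A] [IsNoetherianRing A]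
    (f : Fin c → A), (∀ i, f i ∈ Ring.jacobson A) → IsQuasiRegular f →
    IsWeaklyRegular A (List.ofFn f) := by
  intro c
  induction c with
  | zero =>
    intro A _ _ f _ _
    rw [List.ofFn_zero]
    exact IsWeaklyRegular.nil A A
  | succ c ih =>
    intro A _ _ f hf hq
    rw [List.ofFn_succ, isWeaklyRegular_cons_iff]
    refine ⟨isSMulRegular_zero f hf hq, ?_⟩
    set π := Ideal.Quotient.mk (Ideal.span {f 0}) with hπ
    have hjac : ∀ i : Fin c, π (f i.succ) ∈ Ring.jacobson (A ⧸ Ideal.span {f 0}) := fun i => by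
      have h := hf i.succ
      rw [← Ideal.jacobson_bot, Ideal.jacobson, Ideal.mem_sInf] at h ⊢
      intro M hM
      have := hM.2
      exact h ⟨bot_le, Ideal.comap_isMaximal_of_surjective π Ideal.Quotient.mk_surjective⟩
    have h := ih (A ⧸ Ideal.span {f 0}) (fun i => π (f i.succ)) hjac (map_quasiRegular f hq)
    rw [show List.ofFn (fun i => π (f i.succ)) =
      (List.ofFn fun i : Fin c => f i.succ).map (algebraMap A (A ⧸ Ideal.span {f 0})) by
        rw [List.map_ofFn]; rfl, isWeaklyRegular_map_algebraMap_iff] at h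
    let e : (A ⧸ Ideal.span {f 0}) ≃ₗ[A] QuotSMulTop (f 0) A :=
      Submodule.quotEquivOfEq _ _ (by
        rw [← Submodule.ideal_span_singleton_smul, smul_eq_mul, Ideal.mul_top])
    exact (e.isWeaklyRegular_congr _).mp h

end Groth.Agent.Lib.Regular45.QuasiRegConverse
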