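import Groth.Agent.Lib.Regular.Completion
import Groth.Agent.Lib.Regular.Quotient
import Groth.Agent.Lib.Regular.Serre
import Mathlib.RingTheory.MvPowerSeries.Equiv
import Mathlib.RingTheory.PowerSeries.Ideal
import Mathlib.RingTheory.PowerSeries.Inverse
import Mathlib.RingTheory.Localization.Algebra
import Mathlib.RingTheory.Flat.Localization

/-!
# Regular rings: power series and completions
-/

universe u

open IsLocalRing

namespace Groth.Agent.Lib.Regular45.Global

variable {R : Type u} [CommRing R]

/-- Regularity is checked at maximal ideals. -/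
theorem of_forall_maximal [IsNoetherianRing R]
    (h : ∀ (M : Ideal R) [M.IsMaximal], IsRegularLocalRing (Localization.AtPrime M)) :
    IsRegularRing R := by
  rw [isRegularRing_iff]
  intro p hp
  obtain ⟨M, hM, hpM⟩ := Ideal.exists_le_maximal p hp.ne_top
  have := h M
  let S := Localization.AtPrime M
  have hd : Disjoint (M.primeCompl : Set R) p :=
    Set.disjoint_left.mpr fun x hx hxp => hx (hpM hxp)
  let P : Ideal S := p.map (algebraMap R S)
  have : P.IsPrime := IsLocalization.isPrime_of_isPrime_disjoint M.primeCompl S p hp hd
  have hPp : P.comap (algebraMap R S) = p :=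
    IsLocalization.under_map_of_isPrime_disjoint M.primeCompl S hp hd
  have h1 : IsLocalization.AtPrime (Localization.AtPrime P) (P.comap (algebraMap R S)) :=
    IsLocalization.isLocalization_isLocalization_atPrime_isLocalization M.primeCompl _ P
  have h2 : IsLocalization.AtPrime (Localization.AtPrime P) p := by simpa only [hPp] using h1
  have := Groth.Agent.Lib.Regular.Serre.isRegularLocalRing_localization P
  exact IsRegularLocalRing.of_ringEquiv
    (IsLocalization.algEquiv p.primeCompl (Localization.AtPrime P) (Localization.AtPrime p)).toRingEquiv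

theorem isRegularRing_powerSeries (A : Type u) [CommRing A] [IsRegularRing A] :
    IsRegularRing (PowerSeries A) := by
  refine of_forall_maximal fun M hM => ?_
  let cc : PowerSeries A →+* A := PowerSeries.constantCoeff
  have hsurj : Function.Surjective cc := fun r => ⟨PowerSeries.C r, by simp [cc]⟩
  have hX : (PowerSeries.X : PowerSeries A) ∈ M := by
    by_contra hX
    obtain ⟨y, z, hz, hyz⟩ := hM.exists_inv hX
    have hu : IsUnit z := by
      rw [PowerSeries.isUnit_iff_constantCoeff]
      have := congrArg cc hyz
      simp [cc] at this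
      rw [this]
      exact isUnit_one
    exact hM.ne_top (Ideal.eq_top_of_isUnit_mem _ hz hu)
  have hker : RingHom.ker cc = Ideal.span {(PowerSeries.X : PowerSeries A)} := by
    ext f
    rw [Ideal.mem_span_singleton, PowerSeries.X_dvd_iff, RingHom.mem_ker]
  have hkerM : RingHom.ker cc ≤ M := by
    rw [hker, Ideal.span_le, Set.singleton_subset_iff]; exact hX
  let p := M.map cc
  have hp : p.IsMaximal := Ideal.IsMaximal.map_of_surjective_of_ker_le hsurj hkerM
  have hmem : ∀ f, cc f ∈ p ↔ f ∈ M := fun f => by
    rw [← Ideal.mem_comap, Ideal.comap_map_of_surjective' _ hsurj, sup_eq_left.mpr hkerM]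
  have hT : M.primeCompl.map cc = p.primeCompl := by
    ext a
    constructor
    · rintro ⟨f, hf, rfl⟩
      exact fun h => hf ((hmem f).mp h)
    · intro ha
      obtain ⟨f, rfl⟩ := hsurj a
      exact ⟨f, fun h => ha ((hmem f).mpr h), rfl⟩
  let S := Localization.AtPrime M
  have : IsLocalization (M.primeCompl.map cc) (Localization.AtPrime p) := by rw [hT]; infer_instance
  let ψ : S →+* Localization.AtPrime p :=
    IsLocalization.map (Localization.AtPrime p) cc (hT.symm ▸ M.primeCompl.le_comap_map)
  have hψsurj : Function.Surjective ψ :=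
    IsLocalization.map_surjective_of_surjective M.primeCompl S (Localization.AtPrime p) hsurj
  have hψker : RingHom.ker ψ = Ideal.span {algebraMap (PowerSeries A) S PowerSeries.X} := by
    rw [IsLocalization.ker_map (S := S) (Localization.AtPrime p) cc hT, hker, Ideal.map_span,
      Set.image_singleton]
  have hreg : IsRegularLocalRing (Localization.AtPrime p) :=
    IsRegularRing.isRegularLocalRing_localization p
  refine Groth.Agent.Lib.Regular.Quotient.of_quotient_singleton
    (x := algebraMap (PowerSeries A) S PowerSeries.X) ?_ ?_ ?_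
  · rw [← Localization.AtPrime.map_eq_maximalIdeal]
    exact Ideal.mem_map_of_mem _ hX
  · intro a b hab
    obtain ⟨⟨f, s⟩, rfl⟩ := IsLocalization.mk'_surjective M.primeCompl a
    obtain ⟨⟨g, t⟩, rfl⟩ := IsLocalization.mk'_surjective M.primeCompl b
    simp only [smul_eq_mul] at hab
    rw [IsLocalization.mk'_eq_iff_eq]
    have h' : algebraMap (PowerSeries A) S (PowerSeries.X * ((t : PowerSeries A) * f)) =
        algebraMap (PowerSeries A) S (PowerSeries.X * ((s : PowerSeries A) * g)) := by
      have e1 := IsLocalization.mk'_spec S f s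
      have e2 := IsLocalization.mk'_spec S g t
      simp only [map_mul]
      linear_combination (algebraMap (PowerSeries A) S s * algebraMap (PowerSeries A) S t) * hab -
        (algebraMap (PowerSeries A) S PowerSeries.X * algebraMap (PowerSeries A) S t) * e1 +
        (algebraMap (PowerSeries A) S PowerSeries.X * algebraMap (PowerSeries A) S s) * e2
    obtain ⟨c, hc⟩ := (IsLocalization.eq_iff_exists M.primeCompl S).mp h'
    refine (IsLocalization.eq_iff_exists M.primeCompl S).mpr ⟨c, PowerSeries.X_mul_cancel ?_⟩
    linear_combination hc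
  · exact IsRegularLocalRing.of_ringEquiv
      ((Ideal.quotEquivOfEq hψker.symm).trans (RingHom.quotientKerEquivOfSurjective hψsurj)).symm

theorem isRegularRing_mvPowerSeries (A : Type u) [CommRing A] [IsRegularRing A] :
    ∀ n : ℕ, IsRegularRing (MvPowerSeries (Fin n) A)
  | 0 => by
    have hb : Function.Bijective (MvPowerSeries.constantCoeff (σ := Fin 0) (R := A)) := by
      refine ⟨fun f g h => MvPowerSeries.ext fun n => ?_, fun r => ⟨MvPowerSeries.C r, by simp⟩⟩
      rw [Subsingleton.elim n 0]
      simpa using h
    exact IsRegularRing.of_ringEquiv (RingEquiv.ofBijective _ hb).symm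
  | n + 1 => by
    have := isRegularRing_mvPowerSeries A n
    have := isRegularRing_powerSeries (MvPowerSeries (Fin n) A)
    exact IsRegularRing.of_ringEquiv (MvPowerSeries.finSuccEquiv A n).toRingEquiv.symm

theorem isRegularRing_adicCompletion (A : Type u) [CommRing A] [IsRegularRing A] (J : Ideal A) :
    IsRegularRing (AdicCompletion J A) := by
  let Ah := AdicCompletion J A
  refine of_forall_maximal fun M hM => ?_
  have := AdicCompletion.isAdicComplete_self J (Ideal.fg_of_isNoetherianRing J)
  have hJM : J.map (algebraMap A Ah) ≤ M :=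
    (IsAdicComplete.le_jacobson_bot _).trans (sInf_le ⟨bot_le, hM⟩)
  have hs : Function.Surjective (AdicCompletion.evalOneₐ J).toRingHom :=
    AdicCompletion.evalOneₐ_surjective J
  have hker : RingHom.ker (AdicCompletion.evalOneₐ J).toRingHom ≤ M :=
    le_of_eq_of_le (AdicCompletion.ker_evalOneₐ_eq_map J (Ideal.fg_of_isNoetherianRing J)) hJM
  let m := M.comap (algebraMap A Ah)
  have hm : m.IsMaximal := by
    have h1 : m = Ideal.comap (Ideal.Quotient.mk J) (M.map (AdicCompletion.evalOneₐ J).toRingHom) := by
      ext r
      rw [Ideal.mem_comap, Ideal.mem_comap, ← AdicCompletion.evalOneₐ_comp_algebraMap_eq_mk]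
      show _ ↔ algebraMap A Ah r ∈
        (M.map (AdicCompletion.evalOneₐ J).toRingHom).comap (AdicCompletion.evalOneₐ J).toRingHom
      rw [Ideal.comap_map_of_surjective' _ hs, sup_eq_left.mpr hker]
    rw [h1]
    have := Ideal.IsMaximal.map_of_surjective_of_ker_le hs hker
    exact Ideal.comap_isMaximal_of_surjective _ Ideal.Quotient.mk_surjective
  have hJm : J ≤ m := Ideal.map_le_iff_le_comap.mp hJM
  have hmax := AdicCompletion.isMaximal_map_of_le J m hJm (Ideal.fg_of_isNoetherianRing J)
  have hMm : m.map (algebraMap A Ah) = M :=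
    hmax.eq_of_le hM.ne_top (Ideal.map_comap_le)
  let S := Localization.AtPrime M
  let R₀ := Localization.AtPrime m
  let f : R₀ →+* S := Localization.localRingHom m M (algebraMap A Ah) rfl
  let _ : Algebra R₀ S := f.toAlgebra
  have : IsScalarTower A R₀ S := IsScalarTower.of_algebraMap_eq fun x => by
    show algebraMap A S x = f (algebraMap A R₀ x)
    rw [Localization.localRingHom_to_map, ← IsScalarTower.algebraMap_apply A Ah S]
  have : Module.Flat A S := Module.Flat.trans A Ah S
  have : Module.Flat R₀ S := (Module.flat_iff_of_isLocalization R₀ m.primeCompl S).mpr ‹_›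
  have : IsLocalHom (algebraMap R₀ S) := Localization.isLocalHom_localRingHom m M _ rfl
  refine (Groth.Agent.Lib.Regular.Descent.isRegularLocalRing_iff (R := R₀) S ?_).mp
    (IsRegularRing.isRegularLocalRing_localization m)
  rw [← Localization.AtPrime.map_eq_maximalIdeal, ← Localization.AtPrime.map_eq_maximalIdeal,
    Ideal.map_map, ← IsScalarTower.algebraMap_eq, IsScalarTower.algebraMap_eq A Ah S,
    ← Ideal.map_map, hMm]

end Groth.Agent.Lib.Regular45.Global
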