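import Groth.Agent.Lib.Regular.PD
import Groth.Agent.H22.GlobalDim
import Mathlib.RingTheory.LocalProperties.Projective

/-!
# Projective dimension of finite modules: localization and cyclic test modules
-/

universe u

open CategoryTheory Abelian Groth.Agent.Lib.Regular.PD

namespace Groth.Agent.Lib.Regular45.PDLocal

variable {A : Type u} [CommRing A] [IsNoetherianRing A]

theorem pdle_of_localization : ∀ (n : ℕ) (M : Type u) [AddCommGroup M] [Module A M] [Module.Finite A M],
    (∀ p : PrimeSpectrum A, PDle (Localization.AtPrime p.asIdeal)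
      (LocalizedModule p.asIdeal.primeCompl M) n) → PDle A M n := by
  intro n
  induction n with
  | zero =>
    intro M _ _ _ h
    rw [pdle_zero_iff]
    have : Module.FinitePresentation A M := Module.finitePresentation_of_finite A M
    refine Module.projective_of_localization_maximal fun I hI => ?_
    exact pdle_zero_iff.mp (h ⟨I, hI.isPrime⟩)
  | succ n ih =>
    intro M _ _ _ h
    obtain ⟨k, f, hf⟩ := exists_free_cover (R := A) M
    refine (pdle_succ_iff hf n).mpr (ih _ fun p => ?_)
    let S := p.asIdeal.primeCompl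
    let Ap := Localization.AtPrime p.asIdeal
    have : IsLocalizedModule S (Algebra.linearMap A Ap) :=
      (isLocalizedModule_iff_isLocalization' S Ap).mpr inferInstance
    let ι : (Fin k → A) →ₗ[A] (Fin k → Ap) := .pi fun i => Algebra.linearMap A Ap ∘ₗ .proj i
    have hι : IsLocalizedModule S ι := inferInstance
    let g := LocalizedModule.mkLinearMap S M
    let fA : (Fin k → Ap) →ₗ[Ap] LocalizedModule S M := IsLocalizedModule.mapExtendScalars S ι g Ap f
    have hfA : Function.Surjective fA := IsLocalizedModule.map_surjective S ι g f hf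
    let g' : LinearMap.ker f →ₗ[A] LinearMap.ker fA := LinearMap.toKerIsLocalized S ι g f
    have : IsLocalizedModule S g' := LinearMap.toKerLocalized_isLocalizedModule Ap S ι g f
    let e := IsLocalizedModule.linearEquiv S g' (LocalizedModule.mkLinearMap S (LinearMap.ker f))
    exact pdle_of_equiv { e.toLinearMap.extendScalarsOfIsLocalization S Ap with
        invFun := e.symm
        left_inv := e.left_inv
        right_inv := e.right_inv } ((pdle_succ_iff hfA n).mp (h p))

/-- Vanishing of `Ext(M, -)` on cyclic modules gives vanishing on finite modules. -/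
theorem subsingleton_ext_of_cyclic (M : ModuleCat.{u} A) (n : ℕ)
    (h : ∀ I : Ideal A, Subsingleton (Ext M (ModuleCat.of A (A ⧸ I)) n))
    (N : Type u) [AddCommGroup N] [Module A N] [Module.Finite A N] :
    Subsingleton (Ext M (ModuleCat.of A N) n) := by
  suffices ∀ (c : ℕ) (N : Type u) [AddCommGroup N] [Module A N] (v : Fin c → N),
      Submodule.span A (Set.range v) = ⊤ → Subsingleton (Ext M (ModuleCat.of A N) n) by
    obtain ⟨c, v, hv⟩ := Module.Finite.exists_fin (R := A) (M := N)
    exact this c N v hv
  intro c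
  induction c with
  | zero =>
    intro N _ _ v hv
    have : Subsingleton N := by
      have h0 : (⊤ : Submodule A N) = ⊥ := by
        rw [← hv, Set.range_eq_empty, Submodule.span_empty]
      exact ⟨fun a b => by
        have ha : a ∈ (⊤ : Submodule A N) := trivial
        have hb : b ∈ (⊤ : Submodule A N) := trivial
        rw [h0, Submodule.mem_bot] at ha hb
        rw [ha, hb]⟩
    have hz : Limits.IsZero (ModuleCat.of A N) := ModuleCat.isZero_iff_subsingleton.mpr ‹_›
    refine subsingleton_of_forall_eq 0 fun e => ?_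
    rw [← e.comp_mk₀_id, hz.eq_of_src (𝟙 (ModuleCat.of A N)) 0, Ext.mk₀_zero, Ext.comp_zero]
  | succ c ih =>
    intro N _ _ v hv
    let φ : A →ₗ[A] N := LinearMap.toSpanSingleton A N (v 0)
    let q : N →ₗ[A] N ⧸ LinearMap.range φ := Submodule.mkQ _
    have h3 : Subsingleton (Ext M (ModuleCat.of A (N ⧸ LinearMap.range φ)) n) := by
      refine ih _ (fun i => q (v i.succ)) (eq_top_iff.mpr ?_)
      rw [show (⊤ : Submodule A (N ⧸ LinearMap.range φ)) = Submodule.map q ⊤ by
        rw [Submodule.map_top]; exact (LinearMap.range_eq_top.mpr (Submodule.mkQ_surjective _)).symm]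
      rw [← hv, Submodule.map_span, Submodule.span_le]
      rintro _ ⟨_, ⟨i, rfl⟩, rfl⟩
      refine Fin.cases ?_ (fun j => Submodule.subset_span ⟨j, rfl⟩) i
      rw [show q (v 0) = 0 from (Submodule.Quotient.mk_eq_zero _).mpr ⟨1, by simp [φ]⟩]
      exact zero_mem _
    let e : (A ⧸ LinearMap.ker φ) ≃ₗ[A] LinearMap.range φ := φ.quotKerEquivRange
    have h1 : Subsingleton (Ext M (ModuleCat.of A (LinearMap.range φ)) n) := by
      have := h (LinearMap.ker φ)
      refine subsingleton_of_forall_eq 0 fun x => ?_
      rw [← x.comp_mk₀_id, ← e.toModuleIso.inv_hom_id, ← Ext.mk₀_comp_mk₀,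
        ← Ext.comp_assoc_of_second_deg_zero,
        Subsingleton.elim (α := Ext M (ModuleCat.of A (A ⧸ LinearMap.ker φ)) n)
          (x.comp (Ext.mk₀ e.toModuleIso.inv) (add_zero n)) 0, Ext.zero_comp]
    let S : ShortComplex (ModuleCat.{u} A) :=
      ModuleCat.shortComplexOfCompEqZero (LinearMap.range φ).subtype q
        (LinearMap.exact_subtype_mkQ _).linearMap_comp_eq_zero
    have hS : S.ShortExact := ModuleCat.shortComplex_shortExact S
      (LinearMap.exact_subtype_mkQ _) (Submodule.subtype_injective _) (Submodule.mkQ_surjective _)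
    refine subsingleton_of_forall_eq 0 fun x => ?_
    obtain ⟨y, rfl⟩ := Ext.covariant_sequence_exact₂ M hS x
      (Subsingleton.elim (α := Ext M (ModuleCat.of A (N ⧸ LinearMap.range φ)) n) _ _)
    rw [Subsingleton.elim (α := Ext M (ModuleCat.of A (LinearMap.range φ)) n) y 0, Ext.zero_comp]

theorem pdle_of_ext_cyclic : ∀ (n : ℕ) (M : Type u) [AddCommGroup M] [Module A M] [Module.Finite A M],
    (∀ I : Ideal A, Subsingleton (Ext (ModuleCat.of A M) (ModuleCat.of A (A ⧸ I)) (n + 1))) →
      PDle A M n := by
  intro n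
  induction n with
  | zero =>
    intro M _ _ _ h
    rw [pdle_zero_iff]
    obtain ⟨k, f, hf⟩ := exists_free_cover (R := A) M
    have hK := subsingleton_ext_of_cyclic (ModuleCat.of A M) 1 h (LinearMap.ker f)
    have hS := LinearMap.shortExact_shortComplexKer hf
    obtain ⟨σ, hσ⟩ := Ext.covariant_sequence_exact₃ (ModuleCat.of A M) hS
      (Ext.mk₀ (𝟙 (ModuleCat.of A M))) (n₁ := 1) rfl
      (Subsingleton.elim (α := Ext (ModuleCat.of A M) (ModuleCat.of A (LinearMap.ker f)) 1) _ _)
    obtain ⟨σ, rfl⟩ := (Ext.mk₀_bijective _ _).2 σ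
    rw [Ext.mk₀_comp_mk₀] at hσ
    have h1 := (Ext.mk₀_bijective _ _).1 hσ
    exact Module.Projective.of_split σ.hom f (LinearMap.ext fun x =>
      LinearMap.congr_fun (congrArg ModuleCat.Hom.hom h1) x)
  | succ n ih =>
    intro M _ _ _ h
    obtain ⟨k, f, hf⟩ := exists_free_cover (R := A) M
    refine (pdle_succ_iff hf n).mpr (ih _ fun I => ?_)
    have hS := LinearMap.shortExact_shortComplexKer hf
    refine subsingleton_of_forall_eq 0 fun x => ?_
    have : CategoryTheory.Projective (ModuleCat.of A (Fin k → A)) :=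
      (IsProjective.iff_projective (R := A) (Fin k → A)).mp inferInstance
    have hx := h I
    obtain ⟨y, rfl⟩ := Ext.contravariant_sequence_exact₁ hS (ModuleCat.of A (A ⧸ I)) x
      (n₁ := n + 1 + 1) (add_comm _ _)
      (Subsingleton.elim (α := Ext (ModuleCat.of A M) (ModuleCat.of A (A ⧸ I)) (n + 1 + 1)) _ _)
    rw [show y = 0 from Ext.eq_zero_of_projective y, Ext.comp_zero]

end Groth.Agent.Lib.Regular45.PDLocal
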