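import Groth.Agent.Lib.Depth.CM
import Groth.Agent.Lib.Depth.Ext
import Mathlib.RingTheory.Ideal.AssociatedPrime.Localization

/-!
# Regular sequences inside a prime of the support of a Cohen–Macaulay module
-/

universe u

open RingTheory.Sequence Pointwise LocCoh IsLocalRing
open Groth.Agent.Lib.Depth

namespace Groth.Agent.Lib.Regular45.CMSeq

variable {A : Type u} [CommRing A]

theorem supportDim_quotient_prime (M : Type u) [AddCommGroup M] [Module A M] [Module.Finite A M]
    (p : PrimeSpectrum A) (hp : p ∈ Module.support A M) :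
    Module.supportDim A (M ⧸ (p.asIdeal • (⊤ : Submodule A M))) = ringKrullDim (A ⧸ p.asIdeal) := by
  have h : Module.support A (M ⧸ (p.asIdeal • (⊤ : Submodule A M))) = Module.support A (A ⧸ p.asIdeal) := by
    rw [Module.support_quotient, Groth.Agent.Lib.Depth.Ext.support_quotient, Set.inter_eq_right]
    intro q hq
    exact Module.mem_support_mono ((PrimeSpectrum.mem_zeroLocus _ _).mp hq) hp
  rw [← Module.supportDim_quotient_eq_ringKrullDim]
  unfold Module.supportDim
  rw [h]

theorem dim_ne_bot (p : PrimeSpectrum A) : ringKrullDim (A ⧸ p.asIdeal) ≠ ⊥ := fun h => by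
  have : Nontrivial (A ⧸ p.asIdeal) := Ideal.Quotient.nontrivial_iff.mpr p.2.ne_top
  have h0 := ringKrullDim_nonneg_of_nontrivial (R := A ⧸ p.asIdeal)
  rw [h] at h0
  simp at h0

variable [IsNoetherianRing A] [IsLocalRing A]

theorem exists_regular : ∀ (r : ℕ) (M : Type u) [AddCommGroup M] [Module A M] [Module.Finite A M],
    IsCohenMacaulayModule A M → ∀ p : PrimeSpectrum A, p ∈ Module.support A M →
      ringKrullDim (A ⧸ p.asIdeal) + r = Module.supportDim A M →
      ∃ xs : List A, xs.length = r ∧ (∀ x ∈ xs, x ∈ p.asIdeal) ∧ IsWeaklyRegular M xs := by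
  intro r
  induction r with
  | zero => exact fun M _ _ _ _ _ _ _ => ⟨[], rfl, by simp, IsWeaklyRegular.nil A M⟩
  | succ r ih =>
    intro M _ _ _ hM p hp hr
    obtain ⟨x, hx, hreg⟩ := (Assoc.exists_isSMulRegular_iff p.asIdeal M).mpr fun q hq hle => by
      have h1 := CM.ringKrullDim_quotient_eq hM hq
      have h2 : ringKrullDim (A ⧸ q) ≤ ringKrullDim (A ⧸ p.asIdeal) :=
        ringKrullDim_le_of_surjective (Ideal.Quotient.factor hle) (Ideal.Quotient.factor_surjective hle)
      have := CM.nontrivial_of_isCohenMacaulayModule hM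
      obtain ⟨d, hd⟩ := CM.supportDim_eq_nat (R := A) M
      rw [h1, hd] at h2
      rw [hd] at hr
      obtain ⟨e, he⟩ := WithBot.ne_bot_iff_exists.mp
        (dim_ne_bot p)
      rw [← he] at h2 hr
      norm_cast at h2 hr
      induction e using ENat.recTopCoe with
      | top => simp at hr
      | coe e => norm_cast at h2 hr; omega
    have hxm : x ∈ maximalIdeal A := le_maximalIdeal p.2.ne_top hx
    have hp' : p ∈ Module.support A (QuotSMulTop x M) := by
      rw [Module.support_quotSMulTop]
      exact ⟨hp, by simpa using hx⟩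
    have hd := Module.supportDim_quotSMulTop_succ_eq_supportDim hreg hxm
    obtain ⟨xs, h1, h2, h3⟩ := ih (QuotSMulTop x M)
      ((CM.isCohenMacaulayModule_quotSMulTop_iff hxm hreg).mpr hM) p hp' (by
        rw [← hd, Nat.cast_succ, ← add_assoc] at hr
        exact ENat.WithBot.add_one_cancel.mp hr)
    exact ⟨x :: xs, by simp [h1], List.forall_mem_cons.mpr ⟨hx, h2⟩,
      (isWeaklyRegular_cons_iff M x xs).mpr ⟨hreg, h3⟩⟩

theorem quotient_of_regular (M : Type u) [AddCommGroup M] [Module A M] [Module.Finite A M]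
    (p : PrimeSpectrum A) (hp : p ∈ Module.support A M) (xs : List A)
    (hmem : ∀ x ∈ xs, x ∈ p.asIdeal) (hw : IsWeaklyRegular M xs)
    (hr : ringKrullDim (A ⧸ p.asIdeal) + xs.length = Module.supportDim A M) :
    Module.supportDim A (M ⧸ Ideal.ofList xs • (⊤ : Submodule A M)) = ringKrullDim (A ⧸ p.asIdeal) ∧
      p.asIdeal ∈ associatedPrimes A (M ⧸ Ideal.ofList xs • (⊤ : Submodule A M)) ∧
      ∀ q ∈ associatedPrimes A (M ⧸ Ideal.ofList xs • (⊤ : Submodule A M)), q ≤ p.asIdeal →
        q = p.asIdeal := by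
  have : Nontrivial M := by
    rw [← Module.nonempty_support_iff (R := A)]
    exact ⟨p, hp⟩
  have hle : Ideal.ofList xs ≤ p.asIdeal := Basic.ofList_le hmem
  have hR : IsRegular M xs :=
    Basic.isRegular_of_mem (Basic.smul_top_ne_top p.2.ne_top) hw hmem
  obtain ⟨n, hn⟩ := CM.supportDim_eq_nat (R := A) M
  have hdim : Module.supportDim A (M ⧸ Ideal.ofList xs • (⊤ : Submodule A M)) =
      ringKrullDim (A ⧸ p.asIdeal) := by
    have h := Module.supportDim_add_length_eq_supportDim_of_isRegular xs hR
    rw [← hr] at h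
    exact ENat.WithBot.add_natCast_cancel.mp h
  have hpQ : p ∈ Module.support A (M ⧸ Ideal.ofList xs • (⊤ : Submodule A M)) := by
    rw [Module.support_quotient]
    exact ⟨hp, (PrimeSpectrum.mem_zeroLocus _ _).mpr hle⟩
  have hmax : ∀ q : Ideal A, q.IsPrime → q ≤ p.asIdeal →
      ringKrullDim (A ⧸ q) ≤ ringKrullDim (A ⧸ p.asIdeal) → q = p.asIdeal := by
    intro q hq hqp hd
    by_contra hne
    have h := Assoc.ringKrullDim_quotient_add_one_le_of_lt (p := q) (q := p.asIdeal)
      (lt_of_le_of_ne hqp hne)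
    have h2 := h.trans hd
    obtain ⟨e, he⟩ := WithBot.ne_bot_iff_exists.mp
      (dim_ne_bot p)
    rw [← he, hn] at hr
    rw [← he] at h2
    norm_cast at h2 hr
    induction e using ENat.recTopCoe with
    | top => simp at hr
    | coe e => norm_cast at h2 hr; omega
  refine ⟨hdim, ?_, fun q hq hqp => hmax q (IsAssociatedPrime.isPrime hq) hqp
    ((Assoc.ringKrullDim_quotient_le_supportDim _ hq).trans hdim.le)⟩
  refine Module.associatedPrimes.minimalPrimes_annihilator_subset_associatedPrimes A _
    ⟨⟨p.2, Module.annihilator_le_of_mem_support hpQ⟩, fun q hq hqp => ?_⟩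
  have hqd : ringKrullDim (A ⧸ q) ≤ ringKrullDim (A ⧸ p.asIdeal) := by
    rw [← hdim, Module.supportDim_eq_ringKrullDim_quotient_annihilator]
    exact ringKrullDim_le_of_surjective (Ideal.Quotient.factor hq.2)
      (Ideal.Quotient.factor_surjective hq.2)
  exact (hmax q hq.1 hqp hqd).ge

end Groth.Agent.Lib.Regular45.CMSeq
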